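import Cfsg.Agent.H954.LD.Row
import Cfsg.Agent.H417.DegMTwentyThree
import Cfsg.Agent.H55.OutGen
import Cfsg.Agent.SporadicA.MathieuRecog
import Cfsg.Agent.S2063

/-!
# S4910, the row of the Mathieu group of degree 23: the degrees 1035 and 896 (helper790)
-/

set_option autoImplicit false

namespace Cfsg.Agent.H790.LD

open Cfsg

universe u

theorem row_M23 {S : Type u} [Group S] [Finite S] [IsSimpleGroup S] (hna : ¬ IsMulCommutative S) (h : Spor.IsoM23 S) :
    Cfsg.Agent.H954.LD.CopRow S := by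
  obtain ⟨e⟩ := h
  have hG : Cfsg.IsM23 S :=
    ⟨inferInstance, by rw [Nat.card_congr e.toEquiv, Cfsg.Agent.SporadicA.MathieuRecog.card_M23]⟩
  have h1 : Nat.card (Out S) = 1 := by rw [H55.OutGen.card_out_congr e, S2063.result]
  obtain ⟨hs, H, z, v, a, b, c, d, g, h, b₁, c₁, K⟩ := H417.DegMTwentyThree.exists_elev' hG
  have hd : charDegree (d : S → ℂ) = 1035 := K.dgd
  have hb : charDegree (b₁ : S → ℂ) = 896 := K.dgb₁
  exact H954.LD.copRow_one hna h1 (α := d) (β := b₁) (by rw [hd]; norm_num) (by rw [hb]; norm_num)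
    (by rw [hd, hb]; norm_num)

end Cfsg.Agent.H790.LD
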